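import Mathlib

/-!
An endomorphism of order `q` over `ZMod p` and its semilinear symmetries.
-/

set_option autoImplicit false

namespace Cfsg.Agent.S4081

open Polynomial

variable {p q : ℕ} [hp : Fact p.Prime] [hq : Fact q.Prime]

theorem aeval_intertwine {V : Type*} [AddCommGroup V] [Module (ZMod p) V]
    {S T : Module.End (ZMod p) V} (α : V ≃ₗ[ZMod p] V) (h : ∀ u, α (T u) = S (α u))
    (g : (ZMod p)[X]) (u : V) : α (aeval T g u) = aeval S g (α u) := by
  induction g using Polynomial.induction_on generalizing u with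
  | C a => simp
  | add f g hf hg => simp [hf, hg]
  | monomial n a ih =>
    simp only [pow_succ, ← mul_assoc, map_mul, aeval_X, Module.End.mul_apply]
    simp only [map_mul] at ih
    rw [← h]
    exact ih (T u)

theorem orderOf_unit_eq {u : (ZMod q)ˣ} (h : (u : ZMod q) = (p : ZMod q)) :
    orderOf u = orderOf (p : ZMod q) := by
  rw [← orderOf_units, h]

/-- The transitivity conditions force `p` to be a primitive root modulo `q`. -/
theorem primitive_root_of_transitive (hpq : p ≠ q) {V : Type*} [AddCommGroup V]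
    [Module (ZMod p) V] [Nontrivial V] (T : Module.End (ZMod p) V) (hT : T ^ q = 1)
    (hfix : ∀ v, T v = v → v = 0)
    (H1 : ∀ v w : V, v ≠ 0 → w ≠ 0 → ∃ (k : ℕ) (α : V ≃ₗ[ZMod p] V), ¬ q ∣ k ∧ α v = w ∧
      ∀ u, α (T u) = (T ^ k) (α u))
    (H2 : ∀ i : ℕ, ¬ q ∣ i → ∃ α : V ≃ₗ[ZMod p] V, ∀ u, α (T u) = (T ^ i) (α u)) :
    orderOf (p : ZMod q) = q - 1 := by
  classical
  have hcomp : ∀ (g : (ZMod p)[X]) (i : ℕ), aeval T (g.comp (X ^ i)) = aeval (T ^ i) g := fun g i => by
    rw [aeval_comp, map_pow, aeval_X]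
  -- annihilators
  let I : V → Ideal (ZMod p)[X] := fun v =>
    { carrier := {g | aeval T g v = 0}
      zero_mem' := by simp
      add_mem' := fun {a b} (ha : aeval T a v = 0) (hb : aeval T b v = 0) => by
        show aeval T (a + b) v = 0
        simp [ha, hb]
      smul_mem' := fun c {g} (hg : aeval T g v = 0) => by
        show aeval T (c * g) v = 0
        rw [map_mul, Module.End.mul_apply, hg, map_zero] }
  have hI : ∀ v g, g ∈ I v ↔ aeval T g v = 0 := fun _ _ => Iff.rfl
  have hXq : aeval T (X ^ q - 1 : (ZMod p)[X]) = 0 := by simp [hT]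
  set Φ := cyclotomic q (ZMod p) with hΦ
  have hΦmul : Φ * (X - 1) = X ^ q - 1 := cyclotomic_prime_mul_X_sub_one (ZMod p) q
  have hΦT : aeval T Φ = 0 := by
    refine LinearMap.ext fun v => hfix _ ?_
    have h0 := congrArg (fun A => A v) hXq
    simp only [← hΦmul, mul_comm Φ, map_mul, map_sub, aeval_X, map_one, Module.End.mul_apply,
      LinearMap.sub_apply, Module.End.one_apply, LinearMap.zero_apply] at h0
    exact sub_eq_zero.mp h0
  have hΦne : Φ ≠ 0 := cyclotomic_ne_zero q _
  -- a vector with prime annihilator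
  obtain ⟨v₀, hv₀⟩ := exists_ne (0 : V)
  obtain ⟨h, hirr, v, hv, hhv⟩ : ∃ h : (ZMod p)[X], Irreducible h ∧ ∃ v : V, v ≠ 0 ∧ h ∈ I v := by
    by_contra hno
    push Not at hno
    have key : ∀ g : (ZMod p)[X], g ≠ 0 → ∀ v : V, v ≠ 0 → aeval T g v ≠ 0 := by
      intro g
      induction g using UniqueFactorizationMonoid.induction_on_prime with
      | h₁ => exact fun h => absurd rfl h
      | h₂ x hx =>
        intro _ v hv h0
        obtain ⟨c, hc⟩ := hx
        apply hv
        have : aeval T (((c⁻¹ : ((ZMod p)[X])ˣ) : (ZMod p)[X]) * x) v = 0 := by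
          rw [map_mul, Module.End.mul_apply, h0, map_zero]
        simpa [← hc] using this
      | h₃ a b ha hb ih =>
        intro _ v hv h0
        rw [map_mul, Module.End.mul_apply] at h0
        exact hno b hb.irreducible _ (ih ha v hv) h0
    exact key Φ hΦne v₀ hv₀ (by rw [hΦT]; rfl)
  have hIne : ∀ w, I w ≠ ⊥ := fun w e =>
    hΦne (by
      have : Φ ∈ I w := (hI _ _).mpr (by rw [hΦT]; rfl)
      rwa [e, Ideal.mem_bot] at this)
  have hItop : ∀ w, w ≠ 0 → I w ≠ ⊤ := fun w hw e => hw (by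
    have : (1 : (ZMod p)[X]) ∈ I w := by rw [e]; exact Submodule.mem_top
    simpa [hI] using this)
  have hIv : I v = Ideal.span {h} := by
    have hmax : (Ideal.span {h}).IsMaximal := PrincipalIdealRing.isMaximal_of_irreducible hirr
    exact (hmax.eq_of_le (hItop v hv) ((Ideal.span_singleton_le_iff_mem _).mpr hhv)).symm
  have hprime : ∀ w, w ≠ 0 → (I w).IsMaximal := by
    intro w hw
    obtain ⟨k, α, hk, hαv, hα⟩ := H1 v w hv hw
    obtain ⟨j, hj⟩ : ∃ j : ℕ, k * j ≡ 1 [MOD q] :=
      Nat.exists_mul_mod_eq_one_of_coprime ((hq.out.coprime_iff_not_dvd.mpr hk).symm) hq.out.one_lt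
        |>.imp fun j hj => by rw [Nat.ModEq, hj.2, Nat.mod_eq_of_lt hq.out.one_lt]
    have hTj : (T ^ k) ^ j = T := by
      have := pow_eq_pow_mod (M := Module.End (ZMod p) V) (a := T) (k * j) hT
      rw [← pow_mul, this, hj, Nat.mod_eq_of_lt hq.out.one_lt, pow_one]
    have hIw : I w = (I v).comap (Polynomial.compRingHom (X ^ j : (ZMod p)[X])) := by
      ext g
      have e : α (aeval T (g.comp (X ^ j)) v) = aeval T g w := by
        rw [aeval_intertwine α hα, hαv, aeval_comp, map_pow, aeval_X, hTj]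
      rw [Ideal.mem_comap, hI, hI, Polynomial.coe_compRingHom_apply, ← e]
      exact map_eq_zero_iff α α.injective
    have hp' : (I v).IsPrime := by
      rw [hIv]; exact (PrincipalIdealRing.isMaximal_of_irreducible hirr).isPrime
    have : (I w).IsPrime := hIw ▸ Ideal.comap_isPrime _ _
    exact this.isMaximal (hIne w)
  have hall : ∀ w : V, aeval T h w = 0 := by
    intro w
    rw [← hI]
    rcases eq_or_ne w 0 with rfl | hw
    · simp [hI]
    suffices hEq : I w = I v by rw [hEq]; exact hhv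
    rcases eq_or_ne (v + w) 0 with h3 | h3
    · ext g
      rw [hI, hI, eq_neg_of_add_eq_zero_right h3, map_neg, neg_eq_zero]
    have hle : I v * I (v + w) ≤ I w := by
      rw [Ideal.mul_le]
      intro a ha b hb
      rw [hI] at ha hb ⊢
      have h1 : aeval T (a * b) v = 0 := by
        rw [mul_comm, map_mul, Module.End.mul_apply, ha, map_zero]
      have h2 : aeval T (a * b) (v + w) = 0 := by
        rw [map_mul, Module.End.mul_apply, hb, map_zero]
      rwa [map_add, h1, zero_add] at h2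
    rcases (hprime w hw).isPrime.mul_le.mp hle with h1 | h1
    · exact ((hprime v hv).eq_of_le (hprime w hw).ne_top h1).symm
    · have e : I (v + w) = I w := (hprime _ h3).eq_of_le (hprime w hw).ne_top h1
      have : I w ≤ I v := fun g hg => by
        have hg' : g ∈ I (v + w) := e ▸ hg
        rw [hI] at hg hg' ⊢
        rwa [map_add, hg, add_zero] at hg'
      exact (hprime w hw).eq_of_le (hprime v hv).ne_top this
  have hTh : aeval T h = 0 := LinearMap.ext hall
  have hker : ∀ g : (ZMod p)[X], aeval T g = 0 → h ∣ g := fun g hg => by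
    rw [← Ideal.mem_span_singleton, ← hIv, hI, hg]; rfl
  -- count the roots of `h` in `AdjoinRoot h`
  have := Fact.mk hirr
  set ζ := AdjoinRoot.root h with hζ
  have hζ1 : ζ ≠ 1 := by
    intro e
    have h0 : AdjoinRoot.mk h (X - 1) = 0 := by
      rw [map_sub, AdjoinRoot.mk_X, map_one, ← hζ, e, sub_self]
    rw [AdjoinRoot.mk_eq_zero] at h0
    obtain ⟨c, hc⟩ := h0
    have hz : aeval T (X - 1 : (ZMod p)[X]) = 0 := by rw [hc, map_mul, hTh, zero_mul]
    have := congrArg (fun A => A v) hz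
    simp only [map_sub, aeval_X, map_one, LinearMap.sub_apply, Module.End.one_apply,
      LinearMap.zero_apply] at this
    exact hv (hfix v (sub_eq_zero.mp this))
  have hζq : ζ ^ q = 1 := by
    have h0 : AdjoinRoot.mk h (X ^ q - 1) = 0 := AdjoinRoot.mk_eq_zero.mpr (hker _ hXq)
    rwa [map_sub, map_pow, AdjoinRoot.mk_X, map_one, sub_eq_zero] at h0
  have hord : orderOf ζ = q := orderOf_eq_prime hζq hζ1
  have hroots : ∀ i : ℕ, ¬ q ∣ i → (h.map (AdjoinRoot.of h)).IsRoot (ζ ^ i) := by
    intro i hi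
    obtain ⟨α, hα⟩ := H2 i hi
    have h1 : aeval T (h.comp (X ^ i)) = 0 := by
      rw [hcomp]
      refine LinearMap.ext fun w => ?_
      obtain ⟨u, rfl⟩ := α.surjective w
      rw [← aeval_intertwine α hα, hTh]
      simp
    have h2 : AdjoinRoot.mk h (h.comp (X ^ i)) = 0 := AdjoinRoot.mk_eq_zero.mpr (hker _ h1)
    rw [← AdjoinRoot.aeval_eq, aeval_comp, map_pow, aeval_X, ← hζ, aeval_def,
      AdjoinRoot.algebraMap_eq] at h2
    rw [IsRoot.def, eval_map]
    exact h2
  have hdeg : q - 1 ≤ h.natDegree := by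
    have hne : h.map (AdjoinRoot.of h) ≠ 0 :=
      (Polynomial.map_ne_zero_iff (AdjoinRoot.of h).injective).mpr hirr.ne_zero
    calc q - 1 = ((Finset.Ioo 0 q).image fun i => ζ ^ i).card := by
          rw [Finset.card_image_of_injOn, Nat.card_Ioo, Nat.sub_zero]
          intro i hi j hj hij
          rw [Finset.coe_Ioo, Set.mem_Ioo] at hi hj
          exact pow_injOn_Iio_orderOf (by simp [hord]; omega) (by simp [hord]; omega) hij
      _ ≤ (h.map (AdjoinRoot.of h)).natDegree := by
          refine Polynomial.card_le_degree_of_subset_roots fun z hz => ?_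
          simp only [Finset.mem_val, Finset.mem_image, Finset.mem_Ioo] at hz
          obtain ⟨i, hi, rfl⟩ := hz
          exact (Polynomial.mem_roots hne).mpr (hroots i
            (fun hd => by have := Nat.le_of_dvd hi.1 hd; omega))
      _ = h.natDegree := natDegree_map _
  have hn : p.Coprime q := (Nat.coprime_primes hp.out hq.out).mpr hpq
  have hd := natDegree_of_dvd_cyclotomic_of_irreducible (f := 1) (by rw [pow_one, ZMod.card]) hn
    (hker Φ hΦT) hirr
  rw [orderOf_unit_eq (p := p) (u := ZMod.unitOfCoprime _ (hn.pow_left 1)) (by simp)] at hd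
  have hne0 : (p : ZMod q) ≠ 0 := by
    rw [Ne, ZMod.natCast_eq_zero_iff]
    exact fun hd' => hpq ((Nat.prime_dvd_prime_iff_eq hq.out hp.out).mp hd').symm
  have hle : orderOf (p : ZMod q) ≤ q - 1 :=
    Nat.le_of_dvd (by have := hq.out.two_le; omega) (ZMod.orderOf_dvd_card_sub_one hne0)
  omega

/-- If `p` is a primitive root modulo `q`, every two nonzero vectors are related by a symmetry
conjugating `T` to a prescribed power. -/
theorem exists_semilinear (hpq : p ≠ q) (hprim : orderOf (p : ZMod q) = q - 1) {V : Type*}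
    [AddCommGroup V] [Module (ZMod p) V] (T : Module.End (ZMod p) V) (hT : T ^ q = 1)
    (hfix : ∀ v, T v = v → v = 0) (i : ℕ) (hi : ¬ q ∣ i) (v w : V) (hv : v ≠ 0) (hw : w ≠ 0) :
    ∃ α : V ≃+ V, α v = w ∧ ∀ u, α (T u) = (T ^ i) (α u) := by
  classical
  set Φ := cyclotomic q (ZMod p) with hΦ
  have hn : p.Coprime q := (Nat.coprime_primes hp.out hq.out).mpr hpq
  have hirr : Irreducible Φ := by
    refine irreducible_of_dvd_cyclotomic_of_natDegree (f := 1) (by rw [pow_one, ZMod.card]) hn
      dvd_rfl ?_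
    rw [natDegree_cyclotomic, Nat.totient_prime hq.out,
      orderOf_unit_eq (p := p) (u := ZMod.unitOfCoprime _ (hn.pow_left 1)) (by simp), hprim]
  have hXq : aeval T (X ^ q - 1 : (ZMod p)[X]) = 0 := by simp [hT]
  have hΦT : aeval T Φ = 0 := by
    refine LinearMap.ext fun v => hfix _ ?_
    have h0 := congrArg (fun A => A v) hXq
    simp only [← cyclotomic_prime_mul_X_sub_one (ZMod p) q, mul_comm (cyclotomic q (ZMod p)), map_mul,
      map_sub, aeval_X, map_one, Module.End.mul_apply,
      LinearMap.sub_apply, Module.End.one_apply, LinearMap.zero_apply] at h0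
    exact sub_eq_zero.mp h0
  have := Fact.mk hirr
  let ψ : AdjoinRoot Φ →+* Module.End (ZMod p) V :=
    Ideal.Quotient.lift _ (aeval T).toRingHom fun g hg => by
      obtain ⟨c, rfl⟩ := Ideal.mem_span_singleton.mp hg
      show aeval T (Φ * c) = 0
      rw [map_mul, hΦT, zero_mul]
  let _ : Module (AdjoinRoot Φ) V := Module.compHom V ψ
  have hroot : ∀ u : V, AdjoinRoot.root Φ • u = T u := fun u => by
    show ψ (AdjoinRoot.mk Φ X) u = T u
    show (aeval T) X u = T u
    rw [aeval_X]
  have hrootpow : ∀ (m : ℕ) (u : V), AdjoinRoot.root Φ ^ m • u = (T ^ m) u := by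
    intro m
    induction m with
    | zero => simp
    | succ m ih =>
      intro u
      rw [pow_succ', pow_succ', mul_smul, ih, hroot]
      rfl
  -- choose `j` with `p ^ j ≡ i`
  obtain ⟨j, hj⟩ : ∃ j : ℕ, p ^ j ≡ i [MOD q] := by
    have hi0 : (i : ZMod q) ≠ 0 := by rwa [Ne, ZMod.natCast_eq_zero_iff]
    let u := ZMod.unitOfCoprime p hn
    have htop : Subgroup.zpowers u = ⊤ := by
      refine Subgroup.eq_top_of_card_eq _ ?_
      rw [Nat.card_zpowers, orderOf_unit_eq (p := p) (u := u) (by simp [u]), hprim, Nat.card_eq_fintype_card,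
        ZMod.card_units]
    have hm : Units.mk0 (i : ZMod q) hi0 ∈ Subgroup.zpowers u := by rw [htop]; trivial
    rw [← mem_powers_iff_mem_zpowers] at hm
    obtain ⟨j, hj⟩ := hm
    refine ⟨j, ?_⟩
    rw [← ZMod.natCast_eq_natCast_iff, Nat.cast_pow]
    simpa [u] using congrArg Units.val hj
  have : Finite (AdjoinRoot Φ) := by
    have := (cyclotomic.monic q (ZMod p)).finite_adjoinRoot
    exact Module.finite_of_finite (ZMod p)
  have : CharP (AdjoinRoot Φ) p :=
    charP_of_injective_algebraMap (algebraMap (ZMod p) (AdjoinRoot Φ)).injective p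
  have : ExpChar (AdjoinRoot Φ) p := ExpChar.prime hp.out
  let s : AdjoinRoot Φ ≃+* AdjoinRoot Φ := iterateFrobeniusEquiv (AdjoinRoot Φ) p j
  have hs : s (AdjoinRoot.root Φ) = AdjoinRoot.root Φ ^ p ^ j := by
    simp [s, iterateFrobenius_def]
  let b := Module.Free.chooseBasis (AdjoinRoot Φ) V
  let σ : V ≃+ V := b.repr.toAddEquiv.trans
    ((Finsupp.mapRange.addEquiv s.toAddEquiv).trans b.repr.symm.toAddEquiv)
  have hσ : ∀ (a : AdjoinRoot Φ) (u : V), σ (a • u) = s a • σ u := by
    intro a u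
    apply b.repr.injective
    ext k
    simp [σ]
  have hσv : σ v ≠ 0 := (map_ne_zero_iff σ σ.injective).mpr hv
  obtain ⟨φ, hφ1, hφ2⟩ : ∃ φ : Module.Dual (AdjoinRoot Φ) V, φ (σ v) ≠ 0 ∧ φ w ≠ 0 := by
    obtain ⟨f, hf⟩ : ∃ f : Module.Dual (AdjoinRoot Φ) V, f (σ v) ≠ 0 := by
      by_contra hc; push Not at hc
      exact hσv ((Module.forall_dual_apply_eq_zero_iff _ _).mp hc)
    obtain ⟨g, hg⟩ : ∃ g : Module.Dual (AdjoinRoot Φ) V, g w ≠ 0 := by
      by_contra hc; push Not at hc
      exact hw ((Module.forall_dual_apply_eq_zero_iff _ _).mp hc)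
    by_cases h1 : f w = 0
    · by_cases h2 : g (σ v) = 0
      · exact ⟨f + g, by simp [h2, hf], by simp [h1, hg]⟩
      · exact ⟨g, h2, hg⟩
    · exact ⟨f, hf, h1⟩
  let L : V →ₗ[AdjoinRoot Φ] V :=
    LinearMap.id + ((φ (σ v))⁻¹ • φ).smulRight (w - σ v)
  let L' : V →ₗ[AdjoinRoot Φ] V :=
    LinearMap.id + ((φ w)⁻¹ • φ).smulRight (σ v - w)
  have hL : ∀ u, L u = u + ((φ (σ v))⁻¹ * φ u) • (w - σ v) := fun u => rfl
  have hL' : ∀ u, L' u = u + ((φ w)⁻¹ * φ u) • (σ v - w) := fun u => rfl
  have h1 : ∀ u, L' (L u) = u := fun u => by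
    rw [hL', hL, map_add, map_smul, map_sub, smul_eq_mul]
    match_scalars <;> field_simp <;> ring
  have h2 : ∀ u, L (L' u) = u := fun u => by
    rw [hL, hL', map_add, map_smul, map_sub, smul_eq_mul]
    match_scalars <;> field_simp <;> ring
  let Le : V ≃ₗ[AdjoinRoot Φ] V :=
    LinearEquiv.ofLinear L L' (LinearMap.ext h2) (LinearMap.ext h1)
  refine ⟨σ.trans Le.toAddEquiv, ?_, fun u => ?_⟩
  · show L (σ v) = w
    rw [hL, inv_mul_cancel₀ hφ1, one_smul, add_sub_cancel]
  · show L (σ (T u)) = (T ^ i) (L (σ u))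
    rw [← hroot, hσ, hs, map_smul, hrootpow]
    congr 1
    rw [pow_eq_pow_mod (p ^ j) hT, hj, ← pow_eq_pow_mod i hT]

end Cfsg.Agent.S4081
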